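import Groth.Agent.L27.RelCover.Main

/-! The group structure on a cover of an abelian scheme. -/

set_option autoImplicit false
set_option linter.style.haveILetI false
set_option backward.isDefEq.respectTransparency.types false

universe u

open CategoryTheory MonoidalCategory CartesianMonoidalCategory MonObj GrpObj AlgebraicGeometry

noncomputable section

namespace Groth.L27.RelCover

open scoped Obj

variable {S : Scheme.{u}} (X : Over S) [GrpObj X] [IsProper X.hom] [Flat X.hom] [LocallyOfFinitePresentation X.hom]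
  [GeometricallyReduced X.hom] [GeometricallyConnected X.hom]
  (Y : Over S) (f : Y ⟶ X) [IsFinite f.left] [Etale f.left]

include f in
omit [GrpObj X] [IsProper X.hom] [Flat X.hom] [LocallyOfFinitePresentation X.hom] [GeometricallyConnected X.hom]
  [IsFinite f.left] in
/-- geometric fibres of the cover are reduced -/
theorem isReduced_self {Ω : Type u} [Field Ω] [IsAlgClosed Ω] (s : Spec (CommRingCat.of Ω) ⟶ S) :
    IsReduced (Limits.pullback Y.hom s) := by
  haveI : IsReduced (Limits.pullback X.hom s) :=
    GeometricallyReduced.geometrically_isReduced _ _ _ (IsPullback.of_hasPullback X.hom s)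
  rw [← Over.w f]
  exact Groth.L27.HomotopySeq.isReduced_fibre X.hom f.left s

include f in
omit [IsFinite f.left] in
/-- geometric fibres of the square of the cover are reduced -/
theorem isReduced_prod {Ω : Type u} [Field Ω] [IsAlgClosed Ω] (s : Spec (CommRingCat.of Ω) ⟶ S) :
    IsReduced (Limits.pullback (Y ⊗ Y).hom s) := by
  haveI := Groth.L08.Cube.geometricallyIntegral_of_group X
  haveI : IsIntegral (Limits.pullback X.hom s) :=
    GeometricallyIntegral.isIntegral_of_subsingleton (Limits.pullback.snd X.hom s)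
  haveI : IsLocallyNoetherian (Limits.pullback X.hom s) :=
    LocallyOfFiniteType.isLocallyNoetherian (Limits.pullback.snd X.hom s)
  haveI : IsReduced (Limits.pullback (X ⊗ X).hom s) := by
    show IsReduced (Limits.pullback (Limits.pullback.fst X.hom X.hom ≫ X.hom) s)
    haveI : IsIntegral (Limits.pullback (Limits.pullback.fst X.hom X.hom) (Limits.pullback.fst X.hom s)) := inferInstance
    exact isReduced_of_isOpenImmersion
      (Limits.pullbackRightPullbackFstIso X.hom s (Limits.pullback.fst X.hom X.hom)).inv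
  haveI : Etale (f ▷ Y).left :=
    MorphismProperty.of_isPullback (P := @Etale)
      (IsPullback.of_right (show IsPullback ((f ▷ Y).left ≫ (snd X Y).left) (fst Y Y).left Y.hom (f.left ≫ X.hom) by
        rw [show (f ▷ Y).left ≫ (snd X Y).left = (snd Y Y).left from
          congrArg (fun r : Y ⊗ Y ⟶ Y => r.left) (whiskerRight_snd f Y), Over.w f]
        exact (IsPullback.of_hasPullback Y.hom Y.hom).flip)
        (congrArg (fun r : Y ⊗ Y ⟶ X => r.left) (whiskerRight_fst f Y))
        (IsPullback.of_hasPullback X.hom Y.hom).flip).flip inferInstance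
  haveI : Etale (X ◁ f).left :=
    MorphismProperty.of_isPullback (P := @Etale)
      (IsPullback.of_right (show IsPullback ((X ◁ f).left ≫ (fst X X).left) (snd X Y).left X.hom (f.left ≫ X.hom) by
        rw [show (X ◁ f).left ≫ (fst X X).left = (fst X Y).left from
          congrArg (fun r : X ⊗ Y ⟶ X => r.left) (whiskerLeft_fst X f), Over.w f]
        exact IsPullback.of_hasPullback X.hom Y.hom)
        (congrArg (fun r : X ⊗ Y ⟶ X => r.left) (whiskerLeft_snd X f))
        (IsPullback.of_hasPullback X.hom X.hom)).flip inferInstance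
  let p : (Y ⊗ Y).left ⟶ (X ⊗ X).left := (f ▷ Y).left ≫ (X ◁ f).left
  have hp : p ≫ (X ⊗ X).hom = (Y ⊗ Y).hom :=
    (Category.assoc _ _ _).trans ((congrArg ((f ▷ Y).left ≫ ·) (Over.w (X ◁ f))).trans (Over.w (f ▷ Y)))
  rw [← hp]
  exact Groth.L27.HomotopySeq.isReduced_fibre (X ⊗ X).hom p s

variable [GeometricallyConnected Y.hom] [Surjective f.left] (eY : 𝟙_ (Over S) ⟶ Y) (he : eY ≫ f = η[X])

include he in
/-- existence and uniqueness of the group structure -/
theorem existsUnique_grpObj : ∃! h : GrpObj Y, h.one = eY ∧ h.mul ≫ f = (f ⊗ₘ f) ≫ μ[X] := by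
  haveI : IsProper Y.hom := by rw [← Over.w f]; infer_instance
  haveI : Flat Y.hom := by rw [← Over.w f]; infer_instance
  haveI : LocallyOfFinitePresentation Y.hom := by rw [← Over.w f]; infer_instance
  haveI : IsProper (Y ⊗ Y).hom := inferInstanceAs (IsProper (Limits.pullback.fst Y.hom Y.hom ≫ Y.hom))
  haveI : Flat (Y ⊗ Y).hom := inferInstanceAs (Flat (Limits.pullback.fst Y.hom Y.hom ≫ Y.hom))
  haveI : LocallyOfFinitePresentation (Y ⊗ Y).hom :=
    inferInstanceAs (LocallyOfFinitePresentation (Limits.pullback.fst Y.hom Y.hom ≫ Y.hom))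
  haveI : GeometricallyConnected (Y ⊗ Y).hom :=
    GeometricallyConnected.comp (Limits.pullback.fst Y.hom Y.hom) Y.hom
  haveI : GeometricallyConnected ((Y ⊗ Y) ⊗ Y).hom :=
    GeometricallyConnected.comp (Limits.pullback.fst (Y ⊗ Y).hom Y.hom) (Y ⊗ Y).hom
  haveI : GeometricallyConnected (𝟙_ (Over S) ⊗ Y).hom := by
    haveI : IsIso (λ_ Y).hom.left := inferInstanceAs (IsIso ((Over.forget S).map (λ_ Y).hom))
    rw [← Over.w (λ_ Y).hom, MorphismProperty.cancel_left_of_respectsIso @GeometricallyConnected]
    infer_instance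
  haveI : GeometricallyConnected (Y ⊗ 𝟙_ (Over S)).hom := by
    haveI : IsIso (ρ_ Y).hom.left := inferInstanceAs (IsIso ((Over.forget S).map (ρ_ Y).hom))
    rw [← Over.w (ρ_ Y).hom, MorphismProperty.cancel_left_of_respectsIso @GeometricallyConnected]
    infer_instance
  have hone : η[X] = (1 : 𝟙_ (Over S) ⟶ X) := by
    rw [Hom.one_def, toUnit_unique (toUnit _) (𝟙 _), Category.id_comp]
  have hg : (f ⊗ₘ f) ≫ μ[X] = (fst Y Y ≫ f) * (snd Y Y ≫ f) := by
    rw [Hom.mul_def]
    congr 1
  have ht2 : lift eY eY ≫ (f ⊗ₘ f) ≫ μ[X] = η[X] := by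
    rw [lift_map_assoc, he, ← Hom.mul_def, hone, _root_.one_mul]
  obtain ⟨mY, hmY, hm0⟩ := exists_lift_rel X Y f eY he (Y ⊗ Y) (fun Ω _ _ s => isReduced_prod X Y f s) _ (lift eY eY) ht2
    (fun Ω _ _ s => by
      obtain ⟨inst, hm, h1⟩ := exists_fibre_group X Y f eY he Ω s
      refine ⟨(Over.pullback s).map (fst Y Y) * (Over.pullback s).map (snd Y Y), ?_, ?_⟩
      · rw [MonObj.mul_comp, ← Functor.map_comp, ← Functor.map_comp, hg, Functor.map_mul]
      · rw [MonObj.comp_mul, ← Functor.map_comp, ← Functor.map_comp, lift_fst, lift_snd, h1, _root_.one_mul])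
  have hti : eY ≫ f ≫ ι[X] = η[X] := by rw [← Category.assoc, he, GrpObj.one_inv]
  obtain ⟨iY, hiY, hiY0⟩ := exists_lift_rel X Y f eY he Y (fun Ω _ _ s => isReduced_self X Y f s) _ eY hti
    (fun Ω _ _ s => by
      obtain ⟨inst, hm, h1⟩ := exists_fibre_group X Y f eY he Ω s
      refine ⟨(𝟙 ((Over.pullback s).obj Y))⁻¹, ?_, ?_⟩
      · rw [GrpObj.inv_comp, Category.id_comp, ← Functor.map_inv', show f ≫ ι[X] = f⁻¹ by
          rw [GrpObj.inv_eq_inv, GrpObj.comp_inv, Category.comp_id]]
      · rw [GrpObj.comp_inv, Category.comp_id, h1, _root_.inv_one])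
  let inst : GrpObj Y :=
    { one := eY
      mul := mY
      one_mul := by
        refine over_eq_rel (f := f) ?_ (lift (𝟙 _) eY) ?_
        · have : (eY ▷ Y) ≫ (f ⊗ₘ f) = (𝟙_ _ ◁ f) ≫ (η[X] ▷ X) := by
            apply CartesianMonoidalCategory.hom_ext
            · simp only [Category.assoc, tensorHom_fst, whiskerRight_fst_assoc, whiskerRight_fst, he, whiskerLeft_fst_assoc]
            · simp only [Category.assoc, tensorHom_snd, whiskerRight_snd_assoc, whiskerRight_snd, whiskerLeft_snd]
          rw [Category.assoc, hmY, reassoc_of% this, MonObj.one_mul]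
          exact leftUnitor_naturality f
        · rw [← Category.assoc, lift_whiskerRight, Category.id_comp, hm0, lift_leftUnitor_hom]
      mul_one := by
        refine over_eq_rel (f := f) ?_ (lift eY (𝟙 _)) ?_
        · have : (Y ◁ eY) ≫ (f ⊗ₘ f) = (f ▷ 𝟙_ _) ≫ (X ◁ η[X]) := by
            apply CartesianMonoidalCategory.hom_ext
            · simp only [Category.assoc, tensorHom_fst, whiskerLeft_fst_assoc, whiskerLeft_fst, whiskerRight_fst]
            · simp only [Category.assoc, tensorHom_snd, whiskerLeft_snd_assoc, whiskerLeft_snd, he, whiskerRight_snd_assoc]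
          rw [Category.assoc, hmY, reassoc_of% this, MonObj.mul_one]
          exact rightUnitor_naturality f
        · rw [← Category.assoc, lift_whiskerLeft, Category.id_comp, hm0, lift_rightUnitor_hom]
      mul_assoc := by
        refine over_eq_rel (f := f) ?_ (lift (lift eY eY) eY) ?_
        · have l1 : (mY ▷ Y) ≫ (f ⊗ₘ f) = ((f ⊗ₘ f) ⊗ₘ f) ≫ (μ[X] ▷ X) := by
            apply CartesianMonoidalCategory.hom_ext
            · simp only [Category.assoc, tensorHom_fst, whiskerRight_fst_assoc, whiskerRight_fst, hmY, tensorHom_fst_assoc]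
            · simp only [Category.assoc, tensorHom_snd, whiskerRight_snd_assoc, whiskerRight_snd]
          have l2 : (Y ◁ mY) ≫ (f ⊗ₘ f) = (f ⊗ₘ (f ⊗ₘ f)) ≫ (X ◁ μ[X]) := by
            apply CartesianMonoidalCategory.hom_ext
            · simp only [Category.assoc, tensorHom_fst, whiskerLeft_fst_assoc, whiskerLeft_fst]
            · simp only [Category.assoc, tensorHom_snd, whiskerLeft_snd_assoc, whiskerLeft_snd, hmY, tensorHom_snd_assoc]
          simp only [Category.assoc, hmY]
          rw [reassoc_of% l1, reassoc_of% l2, MonObj.mul_assoc]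
          exact associator_naturality_assoc f f f _
        · rw [← Category.assoc, lift_whiskerRight, hm0, hm0, ← Category.assoc, lift_lift_associator_hom,
            ← Category.assoc, lift_whiskerLeft, hm0, hm0]
      inv := iY
      left_inv := by
        refine over_eq_rel (f := f) ?_ eY ?_
        · rw [Category.assoc, hmY, Category.assoc, he, lift_map_assoc, hiY, Category.id_comp]
          rw [show lift (f ≫ ι[X]) f = f ≫ lift ι[X] (𝟙 X) by rw [comp_lift, Category.comp_id],
            Category.assoc, GrpObj.left_inv, ← Category.assoc, toUnit_unique (f ≫ toUnit X) (toUnit Y)]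
        · rw [← Category.assoc, comp_lift, hiY0, Category.comp_id, hm0, ← Category.assoc,
            toUnit_unique (eY ≫ toUnit Y) (𝟙 _), Category.id_comp]
      right_inv := by
        refine over_eq_rel (f := f) ?_ eY ?_
        · rw [Category.assoc, hmY, Category.assoc, he, lift_map_assoc, hiY, Category.id_comp]
          rw [show lift f (f ≫ ι[X]) = f ≫ lift (𝟙 X) ι[X] by rw [comp_lift, Category.comp_id],
            Category.assoc, GrpObj.right_inv, ← Category.assoc, toUnit_unique (f ≫ toUnit X) (toUnit Y)]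
        · rw [← Category.assoc, comp_lift, hiY0, Category.comp_id, hm0, ← Category.assoc,
            toUnit_unique (eY ≫ toUnit Y) (𝟙 _), Category.id_comp] }
  refine ⟨inst, ⟨rfl, hmY⟩, ?_⟩
  rintro h ⟨h1, h2⟩
  refine GrpObj.ext _ _ (MonObj.ext _ _ (over_eq_rel (f := f) (h2.trans hmY.symm) (lift eY eY) ?_))
  show lift eY eY ≫ h.mul = lift eY eY ≫ mY
  rw [hm0, ← h1]
  calc lift h.one h.one ≫ h.mul = lift (𝟙 _) h.one ≫ (h.one ▷ Y ≫ h.mul) := by
        rw [← Category.assoc, lift_whiskerRight, Category.id_comp]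
    _ = h.one := by rw [h.one_mul, lift_leftUnitor_hom]

end Groth.L27.RelCover
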