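import Groth.Agent.L27.RelCover.Section
import Groth.Agent.L27.PiGen.CoverGroup
import Groth.Agent.L08.Cube.RelCubical

/-! Finite etale covers of abelian schemes with connected fibres are abelian schemes. -/

set_option autoImplicit false
set_option linter.style.haveILetI false
set_option backward.isDefEq.respectTransparency.types false

universe u

open CategoryTheory MonoidalCategory CartesianMonoidalCategory MonObj GrpObj AlgebraicGeometry

noncomputable section

namespace Groth.L27.RelCover

open scoped Obj

variable {S : Scheme.{u}} (X : Over S) [GrpObj X] [IsProper X.hom] [Flat X.hom] [LocallyOfFinitePresentation X.hom]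
  [GeometricallyReduced X.hom] [GeometricallyConnected X.hom]
  (Y : Over S) [GeometricallyConnected Y.hom] (f : Y ⟶ X) [IsFinite f.left] [Etale f.left] [Surjective f.left]
  (eY : 𝟙_ (Over S) ⟶ Y) (he : eY ≫ f = η[X])

include he in
/-- the structure on a geometric fibre -/
theorem exists_fibre_group (Ω : Type u) [Field Ω] [IsAlgClosed Ω] (s : Spec (CommRingCat.of Ω) ⟶ S) :
    ∃ inst : GrpObj ((Over.pullback s).obj Y), IsMonHom ((Over.pullback s).map f) ∧
      (Over.pullback s).map eY = (1 : (Over.pullback s).obj (𝟙_ (Over S)) ⟶ (Over.pullback s).obj Y) := by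
  let P := Over.pullback s
  haveI := Groth.L08.Cube.geometricallyIntegral_of_group X
  haveI : IsProper (P.obj X).hom := inferInstanceAs (IsProper (Limits.pullback.snd X.hom s))
  haveI : GeometricallyIntegral (P.obj X).hom :=
    inferInstanceAs (GeometricallyIntegral (Limits.pullback.snd X.hom s))
  haveI : ConnectedSpace (P.obj Y).left :=
    GeometricallyConnected.geometrically_connectedSpace (f := Y.hom) _ _ _ (IsPullback.of_hasPullback _ _)
  have sq : IsPullback (P.map f).left (Limits.pullback.fst Y.hom s) (Limits.pullback.fst X.hom s) f.left := by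
    refine IsPullback.of_right ?_ (Limits.pullback.lift_fst _ _ _) (IsPullback.of_hasPullback X.hom s).flip
    have h1 : (P.map f).left ≫ Limits.pullback.snd X.hom s = Limits.pullback.snd Y.hom s := Over.w (P.map f)
    rw [h1, Over.w f]
    exact (IsPullback.of_hasPullback Y.hom s).flip
  haveI : IsFinite (P.map f).left := MorphismProperty.of_isPullback (P := @IsFinite) sq.flip inferInstance
  haveI : Etale (P.map f).left := MorphismProperty.of_isPullback (P := @Etale) sq.flip inferInstance
  haveI : Surjective (P.map f).left := MorphismProperty.of_isPullback (P := @Surjective) sq.flip inferInstance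
  let e' : 𝟙_ (Over (Spec (CommRingCat.of Ω))) ⟶ P.obj Y := Functor.LaxMonoidal.ε P ≫ P.map eY
  have he' : e'.left ≫ (P.map f).left = Groth.L27.PiGen.origin (P.obj X) :=
    congrArg (fun r : 𝟙_ (Over (Spec (CommRingCat.of Ω))) ⟶ P.obj X => r.left)
      (show e' ≫ P.map f = η[P.obj X] by
        simp only [e', Category.assoc, ← P.map_comp, he]
        exact (Functor.obj.η_def (F := P) (X := X)).symm)
  obtain ⟨inst, hm, hone⟩ := Groth.L27.PiGen.exists_grpObj_at (P.obj Y) (P.map f) e' he'
  refine ⟨inst, hm, ?_⟩
  rw [Hom.one_def]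
  show P.map eY = toUnit _ ≫ inst.one
  rw [hone]
  show P.map eY = toUnit _ ≫ Functor.LaxMonoidal.ε P ≫ P.map eY
  rw [← Category.assoc, Functor.Monoidal.toUnit_ε, ← P.map_comp, toUnit_unique (toUnit _) (𝟙 _), Category.id_comp]

include he in
omit [Surjective f.left] in
/-- lifting a map -/
theorem exists_lift_rel (T : Over S) [IsProper T.hom] [Flat T.hom] [LocallyOfFinitePresentation T.hom]
    [GeometricallyConnected T.hom]
    (hred : ∀ (Ω : Type u) [Field Ω] [IsAlgClosed Ω] (s : Spec (CommRingCat.of Ω) ⟶ S), IsReduced (Limits.pullback T.hom s))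
    (g : T ⟶ X) (t : 𝟙_ (Over S) ⟶ T) (ht : t ≫ g = η[X])
    (hfib : ∀ (Ω : Type u) [Field Ω] [IsAlgClosed Ω] (s : Spec (CommRingCat.of Ω) ⟶ S),
      ∃ m : (Over.pullback s).obj T ⟶ (Over.pullback s).obj Y, m ≫ (Over.pullback s).map f = (Over.pullback s).map g ∧
        (Over.pullback s).map t ≫ m = (Over.pullback s).map eY) :
    ∃ m : T ⟶ Y, m ≫ f = g ∧ t ≫ m = eY := by
  let E := Limits.pullback f.left g.left
  let pE : E ⟶ T.left := Limits.pullback.snd f.left g.left
  let t0 : S ⟶ T.left := t.left
  let e0 : S ⟶ Y.left := eY.left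
  have ht0 : t0 ≫ T.hom = 𝟙 S := Over.w t
  have hte : e0 ≫ f.left = t0 ≫ g.left :=
    congrArg (fun r : 𝟙_ (Over S) ⟶ X => r.left) (he.trans ht.symm)
  obtain ⟨m, hm, hm0⟩ := exists_section T.hom pE
    (fun Ω _ _ s => haveI := hred Ω s; Groth.L27.HomotopySeq.isReduced_fibre T.hom pE s) t0 ht0
    (Limits.pullback.lift e0 t0 hte) (Limits.pullback.lift_snd _ _ _) (fun Ω _ _ s => by
      obtain ⟨ms, hms, hms0⟩ := hfib Ω s
      let m0 : Limits.pullback T.hom s ⟶ Limits.pullback Y.hom s := ms.left
      have hf1 : ((Over.pullback s).map f).left ≫ Limits.pullback.fst X.hom s = Limits.pullback.fst Y.hom s ≫ f.left :=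
        Limits.pullback.lift_fst _ _ _
      have hg1 : ((Over.pullback s).map g).left ≫ Limits.pullback.fst X.hom s = Limits.pullback.fst T.hom s ≫ g.left :=
        Limits.pullback.lift_fst _ _ _
      have h1 : (m0 ≫ Limits.pullback.fst Y.hom s) ≫ f.left = Limits.pullback.fst T.hom s ≫ g.left :=
        (Category.assoc _ _ _).trans ((congrArg (m0 ≫ ·) hf1).symm.trans ((Category.assoc _ _ _).symm.trans
          ((congrArg (fun r : (Over.pullback s).obj T ⟶ (Over.pullback s).obj X => r.left ≫ Limits.pullback.fst X.hom s) hms).trans hg1)))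
      refine ⟨Limits.pullback.lift (m0 ≫ Limits.pullback.fst Y.hom s) (Limits.pullback.fst T.hom s) h1,
        Limits.pullback.lift_snd _ _ _, ?_⟩
      let pt : Spec (CommRingCat.of Ω) ⟶ Limits.pullback T.hom s :=
        Limits.pullback.lift (s ≫ t0) (𝟙 _) (by rw [Category.assoc, ht0, Category.comp_id, Category.id_comp])
      let p1 : Spec (CommRingCat.of Ω) ⟶ Limits.pullback (𝟙 S) s :=
        Limits.pullback.lift s (𝟙 _) (by rw [Category.comp_id, Category.id_comp])
      have hp1 : p1 ≫ Limits.pullback.fst (𝟙 S) s = s := Limits.pullback.lift_fst _ _ _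
      let Pt : Limits.pullback (𝟙 S) s ⟶ Limits.pullback T.hom s := ((Over.pullback s).map t).left
      let Pe : Limits.pullback (𝟙 S) s ⟶ Limits.pullback Y.hom s := ((Over.pullback s).map eY).left
      have hPt : p1 ≫ Pt = pt := by
        apply Limits.pullback.hom_ext
        · rw [Category.assoc, show Pt ≫ Limits.pullback.fst T.hom s = Limits.pullback.fst (𝟙 S) s ≫ t0 from
            Limits.pullback.lift_fst _ _ _, reassoc_of% hp1]
          exact (Limits.pullback.lift_fst _ _ _).symm
        · rw [Category.assoc, show Pt ≫ Limits.pullback.snd T.hom s = Limits.pullback.snd (𝟙 S) s from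
            Over.w ((Over.pullback s).map t)]
          exact (Limits.pullback.lift_snd _ _ _).trans (Limits.pullback.lift_snd _ _ _).symm
      have h2 : Pt ≫ m0 = Pe :=
        congrArg (fun r : (Over.pullback s).obj (𝟙_ (Over S)) ⟶ (Over.pullback s).obj Y => r.left) hms0
      show pt ≫ Limits.pullback.lift (m0 ≫ Limits.pullback.fst Y.hom s) (Limits.pullback.fst T.hom s) h1 = _
      apply Limits.pullback.hom_ext
      · rw [Category.assoc, Category.assoc, Limits.pullback.lift_fst, Limits.pullback.lift_fst, ← hPt, Category.assoc,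
          reassoc_of% h2, show Pe ≫ Limits.pullback.fst Y.hom s = Limits.pullback.fst (𝟙 S) s ≫ e0 from
            Limits.pullback.lift_fst _ _ _, reassoc_of% hp1]
      · rw [Category.assoc, Category.assoc, Limits.pullback.lift_snd, Limits.pullback.lift_snd]
        exact Limits.pullback.lift_fst _ _ _)
  have hmg : (m ≫ Limits.pullback.fst f.left g.left) ≫ f.left = g.left := by
    rw [Category.assoc, Limits.pullback.condition, ← Category.assoc, hm, Category.id_comp]
  refine ⟨Over.homMk (m ≫ Limits.pullback.fst f.left g.left) ?_, Over.OverMorphism.ext hmg, ?_⟩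
  · show (m ≫ Limits.pullback.fst f.left g.left) ≫ Y.hom = T.hom
    rw [← Over.w f]
    exact (Category.assoc _ _ _).symm.trans ((congrArg (· ≫ X.hom) hmg).trans (Over.w g))
  · refine Over.OverMorphism.ext ?_
    show t0 ≫ m ≫ Limits.pullback.fst f.left g.left = e0
    rw [reassoc_of% hm0, Limits.pullback.lift_fst]

variable {X Y}

omit [GrpObj X] [IsProper X.hom] [Flat X.hom] [LocallyOfFinitePresentation X.hom]
  [GeometricallyReduced X.hom] [GeometricallyConnected X.hom] [GeometricallyConnected Y.hom] [Surjective f.left] in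
/-- maps with connected fibres into covers are determined on a section -/
theorem over_eq_rel {T : Over S} [GeometricallyConnected T.hom] {m m' : T ⟶ Y} (h : m ≫ f = m' ≫ f)
    (t : 𝟙_ (Over S) ⟶ T) (ht : t ≫ m = t ≫ m') : m = m' :=
  Over.OverMorphism.ext (eq_of_section T.hom f.left (congrArg (fun r : T ⟶ X => r.left) h) t.left (Over.w t)
    (congrArg (fun r : 𝟙_ (Over S) ⟶ Y => r.left) ht))

end Groth.L27.RelCover
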