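import Groth.Agent.L27.HomotopySeq.Basic
import Groth.Agent.L27.TrivFibres.Rel
import Groth.Agent.L27.FEtGal.Galois
import Mathlib.AlgebraicGeometry.Morphisms.FlatRank

/-! Sections of finite etale covers of schemes with connected fibres, from sections on geometric fibres. -/

set_option autoImplicit false
set_option linter.style.haveILetI false
set_option backward.isDefEq.respectTransparency.types false

universe u

open CategoryTheory CategoryTheory.Limits AlgebraicGeometry

noncomputable section

namespace Groth.L27.RelCover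

variable {T E S : Scheme.{u}}

/-- maps into finite etale schemes which agree along a section agree if the fibres are connected -/
theorem eq_of_section {Xl : Scheme.{u}} (hT : T ⟶ S) [GeometricallyConnected hT] (f : E ⟶ Xl) [IsFinite f]
    [Etale f] {a b : T ⟶ E} (hab : a ≫ f = b ≫ f) (t : S ⟶ T) (ht : t ≫ hT = 𝟙 _) (h : t ≫ a = t ≫ b) : a = b := by
  let e := pullback.lift a b hab
  have hsurj : Surjective (pullback.snd (pullback.diagonal f) e) := ⟨fun z => by
    obtain ⟨Ω, _, _, τ, rfl⟩ := L27.FEtGal.exists_geometric z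
    let F := pullback hT (τ ≫ hT)
    haveI : ConnectedSpace ↥F :=
      GeometricallyConnected.geometrically_connectedSpace _ _ _ (IsPullback.of_hasPullback hT (τ ≫ hT))
    let j : Spec (CommRingCat.of Ω) ⟶ F := pullback.lift (τ ≫ hT ≫ t) (𝟙 _)
      (by rw [Category.assoc, Category.assoc, ht, Category.comp_id, Category.id_comp])
    let j' : Spec (CommRingCat.of Ω) ⟶ F := pullback.lift τ (𝟙 _) (Category.id_comp _).symm
    have hF : pullback.fst hT (τ ≫ hT) ≫ a = pullback.fst hT (τ ≫ hT) ≫ b :=
      L27.TrivFibres.eq_of_connected (g := f) (by rw [Category.assoc, Category.assoc, hab]) j (by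
        rw [← Category.assoc, ← Category.assoc, show j ≫ pullback.fst hT (τ ≫ hT) = τ ≫ hT ≫ t from pullback.lift_fst _ _ _]
        simp only [Category.assoc, h])
    have hτ : τ ≫ a = τ ≫ b := by
      have := congrArg (j' ≫ ·) hF
      simpa only [j', pullback.lift_fst_assoc] using this
    let l : Spec (CommRingCat.of Ω) ⟶ pullback (pullback.diagonal f) e := pullback.lift (τ ≫ a) τ (by
      apply pullback.hom_ext
      · simp only [e, Category.assoc, pullback.diagonal_fst, Category.comp_id, pullback.lift_fst]
      · simp only [e, Category.assoc, pullback.diagonal_snd, Category.comp_id, pullback.lift_snd]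
        exact hτ)
    exact ⟨l default, by rw [← Scheme.Hom.comp_apply, show l ≫ pullback.snd (pullback.diagonal f) e = τ from pullback.lift_snd _ _ _]⟩⟩
  refine L27.TopInv.eq_of_surjective f (pullback.snd (pullback.diagonal f) e) hab ?_
  have c := pullback.condition (f := pullback.diagonal f) (g := e)
  have c1 := congrArg (· ≫ pullback.fst f f) c
  have c2 := congrArg (· ≫ pullback.snd f f) c
  simp only [e, Category.assoc, pullback.diagonal_fst, pullback.diagonal_snd, Category.comp_id,
    pullback.lift_fst, pullback.lift_snd] at c1 c2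
  exact c1.symm.trans c2

/-- a cover with a section on each geometric fibre through a given one has a section -/
theorem exists_section (hT : T ⟶ S) [IsProper hT] [Flat hT] [LocallyOfFinitePresentation hT]
    [GeometricallyConnected hT] (pE : E ⟶ T) [IsFinite pE] [Etale pE]
    (hred : ∀ (Ω : Type u) [Field Ω] [IsAlgClosed Ω] (s : Spec (CommRingCat.of Ω) ⟶ S), IsReduced (pullback (pE ≫ hT) s))
    (t : S ⟶ T) (ht : t ≫ hT = 𝟙 _) (e : S ⟶ E) (he : e ≫ pE = t)
    (hfib : ∀ (Ω : Type u) [Field Ω] [IsAlgClosed Ω] (s : Spec (CommRingCat.of Ω) ⟶ S),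
      ∃ σ : pullback hT s ⟶ E, σ ≫ pE = pullback.fst hT s ∧
        pullback.lift (s ≫ t) (𝟙 _) (by rw [Category.assoc, ht, Category.comp_id, Category.id_comp]) ≫ σ = s ≫ e) :
    ∃ m : T ⟶ E, m ≫ pE = 𝟙 _ ∧ t ≫ m = e := by
  let hE := pE ≫ hT
  obtain ⟨hfin, het⟩ := Groth.Agent.S3701.result hE hred
  haveI := (Groth.Agent.S0388.result hE).1
  let g := hE.toNormalization
  let h := hE.fromNormalization
  haveI : IsFinite h := hfin
  haveI : Etale h := het
  have hgh : g ≫ h = hE := hE.toNormalization_fromNormalization
  let e' := e ≫ g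
  have he' : e' ≫ h = 𝟙 S := by rw [Category.assoc, hgh, reassoc_of% he, ht]
  haveI := L27.TopInv.isOpenImmersion_section h e' he'
  haveI : IsClosedImmersion (e' ≫ h) := he'.symm ▸ inferInstance
  haveI : IsClosedImmersion e' := IsClosedImmersion.of_comp e' h
  let W := pullback g e'
  let i : W ⟶ E := pullback.fst g e'
  let q : W ⟶ T := i ≫ pE
  haveI : IsFinite q := inferInstance
  haveI : Etale q := inferInstance
  have hq : q ≫ hT = pullback.snd g e' := by
    show (pullback.fst g e' ≫ pE) ≫ hT = _
    rw [Category.assoc, show pE ≫ hT = g ≫ h from hgh.symm, pullback.condition_assoc, he', Category.comp_id]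
  have hrank : q.finrank = 1 := by
    funext z
    obtain ⟨Ω, _, _, τ, rfl⟩ := L27.FEtGal.exists_geometric z
    let s := τ ≫ hT
    obtain ⟨σ, hσ1, hσ2⟩ := hfib Ω s
    let F := pullback hT s
    haveI : ConnectedSpace ↥F :=
      GeometricallyConnected.geometrically_connectedSpace _ _ _ (IsPullback.of_hasPullback hT s)
    let P := pullback q (pullback.fst hT s)
    haveI : GeometricallyConnected (q ≫ hT) := by rw [hq]; infer_instance
    haveI : ConnectedSpace ↥P := by
      let l : P ≅ pullback (q ≫ hT) s := pullbackRightPullbackFstIso hT s q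
      haveI : ConnectedSpace ↥(pullback (q ≫ hT) s) :=
        GeometricallyConnected.geometrically_connectedSpace _ _ _ (IsPullback.of_hasPullback (q ≫ hT) s)
      exact l.inv.homeomorph.surjective.connectedSpace l.inv.homeomorph.continuous
    -- the section lands in the piece of the marked point
    let t' : Spec (CommRingCat.of Ω) ⟶ F :=
      pullback.lift (s ≫ t) (𝟙 _) (by rw [Category.assoc, ht, Category.comp_id, Category.id_comp])
    have hσS : (σ ≫ g) ≫ h = pullback.snd hT s ≫ s := by
      rw [Category.assoc, hgh, reassoc_of% hσ1, pullback.condition]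
    have hc : σ ≫ g = (pullback.snd hT s ≫ s) ≫ e' :=
      L27.TrivFibres.eq_of_connected (g := h) (by rw [hσS, Category.assoc, he', Category.comp_id]) t' (by
        rw [← Category.assoc, hσ2]
        show (s ≫ e) ≫ g = t' ≫ (pullback.snd hT s ≫ s) ≫ e'
        rw [Category.assoc (pullback.snd hT s) s, ← Category.assoc t' (pullback.snd hT s),
          show t' ≫ pullback.snd hT s = 𝟙 _ from pullback.lift_snd _ _ _, Category.id_comp, Category.assoc])
    let sec : F ⟶ P := pullback.lift (pullback.lift σ (pullback.snd hT s ≫ s) hc) (𝟙 _) (by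
      show pullback.lift σ _ hc ≫ pullback.fst g e' ≫ pE = 𝟙 _ ≫ pullback.fst hT s
      rw [pullback.lift_fst_assoc, hσ1, Category.id_comp])
    let qs := pullback.snd q (pullback.fst hT s)
    have hsec : sec ≫ qs = 𝟙 _ := pullback.lift_snd _ _ _
    haveI := L27.TopInv.isOpenImmersion_section qs sec hsec
    haveI : IsClosedImmersion (sec ≫ qs) := hsec.symm ▸ inferInstance
    haveI : IsClosedImmersion sec := IsClosedImmersion.of_comp sec qs
    haveI : IsIso sec := by
      haveI : Epi sec.base := (TopCat.epi_iff_surjective _).2 (Set.range_eq_univ.1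
        (IsClopen.eq_univ ⟨sec.isClosedEmbedding.isClosed_range, sec.isOpenEmbedding.isOpen_range⟩ (Set.range_nonempty _)))
      exact IsOpenImmersion.isIso sec
    haveI : IsIso qs := IsIso.of_isIso_fac_left hsec
    let τ' : Spec (CommRingCat.of Ω) ⟶ F := pullback.lift τ (𝟙 _) (Category.id_comp _).symm
    have hτ : pullback.fst hT s (τ' default) = τ default := by
      rw [← Scheme.Hom.comp_apply, show τ' ≫ pullback.fst hT s = τ from pullback.lift_fst _ _ _]
    rw [← hτ, ← Scheme.Hom.finrank_pullback_snd q (pullback.fst hT s)]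
    exact congrFun ((Scheme.Hom.isIso_iff_finrank_eq qs).1 inferInstance) _
  haveI : IsIso q := (Scheme.Hom.isIso_iff_finrank_eq q).2 hrank
  refine ⟨inv q ≫ i, by rw [Category.assoc, IsIso.inv_hom_id], ?_⟩
  let eW : S ⟶ W := pullback.lift e (𝟙 S) (Category.id_comp _).symm
  have hte : t = eW ≫ q := by
    show t = pullback.lift e (𝟙 S) _ ≫ pullback.fst g e' ≫ pE
    rw [pullback.lift_fst_assoc, he]
  rw [hte, Category.assoc, IsIso.hom_inv_id_assoc]
  exact pullback.lift_fst _ _ _

end Groth.L27.RelCover
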